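import Cfsg.Agent.H508.KB.Defs
import Cfsg.Agent.H634.Cols
import Cfsg.Agent.H133.PB.Basic

/-!
# S4822, tasks D1 - D4: lower bounds for `k(B₀)` and `l(B₀)`
-/

set_option autoImplicit false

open Cfsg Subgroup Cfsg.Agent.H508.KB

namespace Cfsg.Agent.H296.KB

universe u

variable {p : ℕ} [Fact p.Prime] {M : Ideal AlgInt}

/-- D1: Brauer's second and third main theorem -/
theorem sum_le_kB {S : Type u} [Group S] [Finite S] (hM : IsPModular p M) (X : Finset S)
    (hX : ∀ x ∈ X, ∃ k, orderOf x = p ^ k) (hcl : ∀ x ∈ X, ∀ y ∈ X, IsConj x y → x = y) :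
    ∑ x ∈ X, blockRank p (principalBlock M ↥(centralizer ({x} : Set S))) ≤ kB M S := by
  obtain ⟨Y, hXY, hY, hYrep⟩ := H634.Cols.exists_reps (p := p) X hX hcl
  rw [kB, H634.Cols.card_principal_eq hM Y hY hYrep]
  exact Finset.sum_le_sum_of_subset hXY

/-- D2 -/
theorem one_le_rank {S : Type u} [Group S] [Finite S] (hM : IsPModular p M) : 1 ≤ blockRank p (principalBlock M S) :=
  H634.Cols.blockRank_pos hM

/-- D3: a `p'`-element which normalizes but does not centralize a `p`-subgroup (Frobenius; S4646) -/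
theorem two_le_rank {C : Type u} [Group C] [Finite C] (hM : IsPModular p M) (Q : Subgroup C) (hQ : IsPGroup p Q) (c : C)
    (hc : ¬ p ∣ orderOf c) (hn : ∀ y ∈ Q, c * y * c⁻¹ ∈ Q) (y : C) (hy : y ∈ Q) (hcy : c * y ≠ y * c) :
    2 ≤ blockRank p (principalBlock M C) := by
  have hp : p.Prime := Fact.out
  by_contra hlt
  have h1 := one_le_rank (S := C) hM
  have : Fintype C := Fintype.ofFinite C
  obtain ⟨P, N, hN, hNP⟩ := S4646.compl_of_rank_one (G := C) hM (by omega)
  -- `c ∈ N`
  have hidx : N.index = Nat.card (P : Subgroup C) := by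
    rw [← hNP.symm.index_eq_card]
  obtain ⟨k, hk⟩ := IsPGroup.iff_card.1 P.2
  have hcN : c ∈ N := by
    have h2 : (QuotientGroup.mk' N c) ^ N.index = 1 := by
      rw [← map_pow]
      exact (QuotientGroup.eq_one_iff _).2 (N.pow_index_mem c)
    have h3 : orderOf (QuotientGroup.mk' N c) ∣ p ^ k := by
      rw [← hk, ← hidx]
      exact orderOf_dvd_of_pow_eq_one h2
    have h4 : orderOf (QuotientGroup.mk' N c) ∣ orderOf c := orderOf_map_dvd _ _
    have h5 : orderOf (QuotientGroup.mk' N c) = 1 := by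
      have h6 : (p ^ k).Coprime (orderOf c) := Nat.Coprime.pow_left k ((Nat.Prime.coprime_iff_not_dvd hp).2 hc)
      exact Nat.dvd_one.1 (h6.gcd_eq_one ▸ Nat.dvd_gcd h3 h4)
    exact (QuotientGroup.eq_one_iff _).1 (orderOf_eq_one_iff.1 h5)
  -- the commutator lies in `N ∩ Q = 1`
  have h2 : c * y * c⁻¹ * y⁻¹ ∈ N := by
    have e : c * y * c⁻¹ * y⁻¹ = c * (y * c⁻¹ * y⁻¹) := by group
    rw [e]
    exact mul_mem hcN (hN.conj_mem _ (inv_mem hcN) y)
  have h3 : c * y * c⁻¹ * y⁻¹ ∈ Q := mul_mem (hn y hy) (inv_mem hy)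
  have hpN : ¬ p ∣ Nat.card N := by
    have h4 : Nat.card N = (P : Subgroup C).index := by
      rw [← hNP.index_eq_card]
    rw [h4]
    exact P.not_dvd_index
  obtain ⟨j, hj⟩ := (IsPGroup.iff_orderOf.1 hQ) ⟨_, h3⟩
  rw [Subgroup.orderOf_mk] at hj
  have h4 : orderOf (c * y * c⁻¹ * y⁻¹) ∣ Nat.card N := by
    rw [← Subgroup.orderOf_mk _ h2]
    exact orderOf_dvd_natCard _
  have h5 : j = 0 := by
    by_contra h6
    rw [hj] at h4
    exact hpN ((dvd_pow_self p h6).trans h4)
  rw [h5, pow_zero, orderOf_eq_one_iff] at hj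
  apply hcy
  have h6 : c * y * c⁻¹ = y := mul_inv_eq_one.1 hj
  calc c * y = c * y * c⁻¹ * c := by group
    _ = y * c := by rw [h6]

/-- lifting of `p`-regular elements -/
theorem exists_regular {C Q : Type u} [Group C] [Finite C] [Group Q] (φ : C →* Q) (hφ : Function.Surjective φ)
    (q : Q) (hq : ¬ p ∣ orderOf q) : ∃ c : C, φ c = q ∧ ¬ p ∣ orderOf c := by
  have hp : p.Prime := Fact.out
  obtain ⟨c, rfl⟩ := hφ q
  have hn : orderOf c ≠ 0 := (orderOf_pos c).ne'
  obtain ⟨P, hP⟩ : ∃ P, P = p ^ (orderOf c).factorization p := ⟨_, rfl⟩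
  have hPd : P ∣ orderOf c := hP ▸ Nat.ordProj_dvd _ _
  have hcop : P.Coprime (orderOf (φ c)) := by
    rw [hP]
    exact Nat.Coprime.pow_left _ ((Nat.Prime.coprime_iff_not_dvd hp).2 hq)
  have hs : 0 < orderOf (φ c) := Nat.pos_of_ne_zero fun h => hq (h ▸ dvd_zero p)
  obtain ⟨u, hu⟩ : ∃ u, P * u ≡ 1 [MOD orderOf (φ c)] := by
    obtain ⟨u, hu⟩ := Nat.chineseRemainder hcop 0 1
    obtain ⟨v, hv⟩ := (Nat.modEq_zero_iff_dvd.1 hu.1)
    exact ⟨v, hv ▸ hu.2⟩
  refine ⟨c ^ (P * u), ?_, fun h => ?_⟩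
  · rw [map_pow]
    conv_rhs => rw [← pow_one (φ c)]
    exact pow_eq_pow_iff_modEq.2 hu
  · have h1 : (c ^ (P * u)) ^ (orderOf c / P) = 1 := by
      rw [← pow_mul, mul_right_comm, Nat.mul_div_cancel' hPd, pow_mul, pow_orderOf_eq_one, one_pow]
    have h2 := h.trans (orderOf_dvd_of_pow_eq_one h1)
    rw [hP] at h2
    exact Nat.not_dvd_ordCompl hp hn h2

/-- D4: quotients -/
theorem rank_quot_le {C Q : Type u} [Group C] [Finite C] [Group Q] [Finite Q] (hM : IsPModular p M) (φ : C →* Q)
    (hφ : Function.Surjective φ) : blockRank p (principalBlock M Q) ≤ blockRank p (principalBlock M C) := by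
  classical
  have hMp := Blocks.Local.isPrime_of_isPModular hM
  have : Fintype C := Fintype.ofFinite C
  unfold blockRank
  -- the map
  let L : (Q → ℂ) →ₗ[ℂ] (C → ℂ) :=
    { toFun := fun f => pRegularPart p (f ∘ φ)
      map_add' := fun f g => by
        funext x
        unfold pRegularPart
        simp only [Pi.add_apply, Function.comp_apply]
        split_ifs <;> simp
      map_smul' := fun a f => by
        funext x
        unfold pRegularPart
        simp only [Pi.smul_apply, Function.comp_apply, RingHom.id_apply]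
        split_ifs <;> simp }
  have hL : ∀ f : Q → ℂ, L (pRegularPart p f) = pRegularPart p (f ∘ φ) := by
    intro f
    funext x
    show pRegularPart p (pRegularPart p f ∘ φ) x = pRegularPart p (f ∘ φ) x
    unfold pRegularPart
    by_cases hx : IsPRegular p x
    · have h2 : IsPRegular p (φ x) := fun h => hx (h.trans (orderOf_map_dvd φ x))
      simp only [if_pos hx, Function.comp_apply, if_pos h2]
    · simp only [if_neg hx]
  set A := Submodule.span ℂ ((fun χ : IrrCharacter Q => pRegularPart p (χ : Q → ℂ)) '' principalBlock M Q) with hA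
  set A' := Submodule.span ℂ ((fun χ : IrrCharacter C => pRegularPart p (χ : C → ℂ)) '' principalBlock M C) with hA'
  have hmap : A.map L ≤ A' := by
    rw [hA, Submodule.map_span_le]
    rintro _ ⟨χ, hχ, rfl⟩
    refine Submodule.subset_span ⟨_, H133.PB.mem_principalBlock_comp φ hφ hχ, ?_⟩
    exact (hL _).symm
  -- injectivity on functions supported on the regular elements
  have hsupp : ∀ f ∈ A, ∀ q : Q, ¬ IsPRegular p q → f q = 0 := by
    intro f hf q hq
    rw [hA] at hf
    induction hf using Submodule.span_induction with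
    | mem f hf =>
      obtain ⟨χ, -, rfl⟩ := hf
      exact if_neg hq
    | zero => rfl
    | add f g _ _ h1 h2 => rw [Pi.add_apply, h1, h2, add_zero]
    | smul a f _ h1 => rw [Pi.smul_apply, h1, smul_zero]
  have hinj : Function.Injective (L.domRestrict A) := by
    rw [← LinearMap.ker_eq_bot, eq_bot_iff]
    rintro ⟨f, hf⟩ h
    have h1 : pRegularPart p (f ∘ φ) = 0 := LinearMap.mem_ker.1 h
    refine (Submodule.mem_bot ℂ).2 (Subtype.ext (funext fun q => ?_))
    show f q = 0
    by_cases hq : IsPRegular p q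
    · obtain ⟨c, hc, hc2⟩ := exists_regular φ hφ q hq
      have h2 := congrFun h1 c
      have h3 : pRegularPart p (f ∘ φ) c = f (φ c) := if_pos hc2
      rw [h3, hc] at h2
      exact h2
    · exact hsupp f hf q hq
  have h1 : Module.finrank ℂ A = Module.finrank ℂ (A.map L) := by
    have h2 := LinearMap.finrank_range_of_inj hinj
    rw [LinearMap.range_domRestrict] at h2
    exact h2.symm
  rw [h1]
  exact Submodule.finrank_mono hmap

end Cfsg.Agent.H296.KB
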